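import Mathlib
import Cfsg.Agent.H411.PrA.Defs

/-!
# Flats of the structure `Geo` (S3618, part A, section 7; helper29)

* `Fl g a T`, `mem_fl`, `ncard_fl`, `key` (change of the base point);
* `cl`, `cl_comm`, `cl_eq`, `Geo.Near` : `near_symm`, lines, `one` (rank 2), `coh` (rank 3, `B = 2`, `ε = 1`).
-/

set_option autoImplicit false
set_option linter.unusedSectionVars false

open Equiv Equiv.Perm

namespace Cfsg.Agent.H29.PrA

open Cfsg.Agent.H411.PrA

universe u

variable {Ω : Type u} {p m B ε : ℕ} {XX : Set (Perm Ω)}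

theorem nf_symm {a b : Ω} (h : NF XX a b) : NF XX b a := by
  obtain ⟨x, hx, h1, h2⟩ := h
  exact ⟨x, hx, h2, h1⟩

/-- the flat of base `a` and type `T` -/
def Fl (g : Geo p m B ε XX) (a : Ω) (T : Finset (Fin m)) : Set Ω :=
  {y | ∀ x ∈ XX, x a = a → Disjoint (g.P a x) T → x y = y}

variable (g : Geo p m B ε XX)

theorem exists_x {a : Ω} {T : Finset (Fin m)} (hT : T.card + p ≤ m) (hp : 1 ≤ p) {i : Fin m} (hi : i ∉ T) :
    ∃ x ∈ XX, x a = a ∧ Disjoint (g.P a x) T ∧ i ∈ g.P a x := by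
  obtain ⟨U, h1, h2, h3⟩ := Finset.exists_subsuperset_card_eq (s := {i}) (t := Tᶜ) (n := p)
    (by simpa using hi) (by simpa using hp) (by rw [Finset.card_compl, Fintype.card_fin]; omega)
  obtain ⟨x, hx, hxa, hP⟩ := g.surj_P a U h3
  refine ⟨x, hx, hxa, ?_, ?_⟩
  · rw [hP, Finset.disjoint_left]
    intro j hj hjT
    exact (Finset.mem_compl.1 (h2 hj)) hjT
  · rw [hP]
    exact h1 (Finset.mem_singleton_self i)

theorem exists_x' {a : Ω} {T : Finset (Fin m)} (hT : T.card + p ≤ m) :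
    ∃ x ∈ XX, x a = a ∧ Disjoint (g.P a x) T := by
  obtain ⟨U, h1, h3⟩ := Finset.exists_subset_card_eq (s := Tᶜ) (n := p)
    (by rw [Finset.card_compl, Fintype.card_fin]; omega)
  obtain ⟨x, hx, hxa, hP⟩ := g.surj_P a U h3
  refine ⟨x, hx, hxa, ?_⟩
  rw [hP, Finset.disjoint_left]
  intro j hj hjT
  exact (Finset.mem_compl.1 (h1 hj)) hjT

theorem mem_fl {a : Ω} {T : Finset (Fin m)} (hT : T.card + p ≤ m) (hp : 1 ≤ p) {y : Ω} :
    y ∈ Fl g a T ↔ y = a ∨ (a ≠ y ∧ NF XX a y ∧ g.S a y ⊆ T) := by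
  constructor
  · intro hy
    by_cases hya : y = a
    · exact Or.inl hya
    · right
      have hay : a ≠ y := fun h => hya h.symm
      obtain ⟨x, hx, hxa, hxT⟩ := exists_x' g (a := a) hT
      have hnf : NF XX a y := ⟨x, hx, hxa, hy x hx hxa hxT⟩
      refine ⟨hay, hnf, ?_⟩
      intro i hi
      by_contra hiT
      obtain ⟨x', hx', hxa', hxT', hi'⟩ := exists_x g (a := a) hT hp hiT
      have h1 := (g.fix_iff a y hay hnf x' hx' hxa').1 (hy x' hx' hxa' hxT')
      exact Finset.disjoint_left.1 h1 hi' hi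
  · rintro (rfl | ⟨hay, hnf, hS⟩)
    · intro x _ hxa _
      exact hxa
    · intro x hx hxa hxT
      exact (g.fix_iff a y hay hnf x hx hxa).2 (hxT.mono_right hS)

/-- **number of points of a flat** -/
theorem ncard_fl [Finite Ω] {a : Ω} {T : Finset (Fin m)} (hT : T.card + p ≤ m) (hp : 1 ≤ p) :
    (Fl g a T).ncard = 1 + B * T.card + ε * T.card.choose 2 := by
  classical
  have := Fintype.ofFinite Ω
  set U : Finset Ω := Finset.univ.filter fun y => a ≠ y ∧ NF XX a y ∧ g.S a y ⊆ T with hU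
  have h1 : Fl g a T = ↑(insert a U) := by
    ext y
    rw [mem_fl g hT hp, Finset.coe_insert, Set.mem_insert_iff, Finset.mem_coe, hU, Finset.mem_filter]
    simp
  have haU : a ∉ U := by rw [hU, Finset.mem_filter]; simp
  rw [h1, Set.ncard_coe_finset, Finset.card_insert_of_notMem haU]
  have h2 : U.card = ∑ s ∈ Finset.powersetCard 1 T ∪ Finset.powersetCard 2 T, (U.filter fun y => g.S a y = s).card := by
    refine Finset.card_eq_sum_card_fiberwise ?_
    intro y hy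
    rw [Finset.mem_coe, hU, Finset.mem_filter] at hy
    obtain ⟨-, h3, h4, h5⟩ := hy
    obtain ⟨h6, h7⟩ := g.card_S a y h3 h4
    rw [Finset.coe_union, Set.mem_union, Finset.mem_coe, Finset.mem_coe, Finset.mem_powersetCard,
      Finset.mem_powersetCard]
    rcases Nat.lt_or_ge (g.S a y).card 2 with h8 | h8
    · exact Or.inl ⟨h5, by omega⟩
    · exact Or.inr ⟨h5, by omega⟩
  have hd : Disjoint (Finset.powersetCard 1 T) (Finset.powersetCard 2 T) := by
    rw [Finset.disjoint_left]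
    intro s h3 h4
    have h5 := (Finset.mem_powersetCard.1 h3).2
    have h6 := (Finset.mem_powersetCard.1 h4).2
    omega
  have h3 : ∀ s ∈ Finset.powersetCard 1 T, (U.filter fun y => g.S a y = s).card = B := by
    intro s hs
    obtain ⟨h4, h5⟩ := Finset.mem_powersetCard.1 hs
    obtain ⟨i, rfl⟩ := Finset.card_eq_one.1 h5
    refine Eq.trans ?_ (g.card_B a i)
    rw [← Set.ncard_coe_finset]
    congr 1
    ext y
    rw [Finset.mem_coe, Finset.mem_filter, hU, Finset.mem_filter, Set.mem_ofPred_eq]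
    constructor
    · rintro ⟨⟨-, h6, h7, -⟩, h8⟩
      exact ⟨h6, h7, h8⟩
    · rintro ⟨h6, h7, h8⟩
      exact ⟨⟨Finset.mem_univ _, h6, h7, by rw [h8]; exact h4⟩, h8⟩
  have h4 : ∀ s ∈ Finset.powersetCard 2 T, (U.filter fun y => g.S a y = s).card = ε := by
    intro s hs
    obtain ⟨h4, h5⟩ := Finset.mem_powersetCard.1 hs
    obtain ⟨i, j, hij, rfl⟩ := Finset.card_eq_two.1 h5
    refine Eq.trans ?_ (g.card_ε a i j hij)
    rw [← Set.ncard_coe_finset]
    congr 1
    ext y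
    rw [Finset.mem_coe, Finset.mem_filter, hU, Finset.mem_filter, Set.mem_ofPred_eq]
    constructor
    · rintro ⟨⟨-, h6, h7, -⟩, h8⟩
      exact ⟨h6, h7, h8⟩
    · rintro ⟨h6, h7, h8⟩
      exact ⟨⟨Finset.mem_univ _, h6, h7, by rw [h8]; exact h4⟩, h8⟩
  rw [h2, Finset.sum_union hd, Finset.sum_congr rfl h3, Finset.sum_congr rfl h4, Finset.sum_const, Finset.sum_const,
    Finset.card_powersetCard, Finset.card_powersetCard, Nat.choose_one_right, smul_eq_mul, smul_eq_mul]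
  ring

theorem size_inj (hB : 1 ≤ B) {r s : ℕ} (h : 1 + B * r + ε * r.choose 2 = 1 + B * s + ε * s.choose 2) : r = s := by
  rcases lt_trichotomy r s with h1 | h1 | h1
  · exfalso
    have h2 : B * r < B * s := Nat.mul_lt_mul_of_pos_left h1 hB
    have h3 : ε * r.choose 2 ≤ ε * s.choose 2 := Nat.mul_le_mul_left _ (Nat.choose_le_choose 2 h1.le)
    omega
  · exact h1
  · exfalso
    have h2 : B * s < B * r := Nat.mul_lt_mul_of_pos_left h1 hB
    have h3 : ε * s.choose 2 ≤ ε * r.choose 2 := Nat.mul_le_mul_left _ (Nat.choose_le_choose 2 h1.le)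
    omega

theorem base_mem_fl (a : Ω) (T : Finset (Fin m)) : a ∈ Fl g a T := fun _ _ h _ => h

theorem exists_single [Finite Ω] (hB : 1 ≤ B) (a : Ω) (i : Fin m) : ∃ b, a ≠ b ∧ NF XX a b ∧ g.S a b = {i} := by
  have h1 := g.card_B a i
  have h2 : {b | a ≠ b ∧ NF XX a b ∧ g.S a b = {i}}.Nonempty := by
    rw [← Set.ncard_pos (Set.toFinite _), h1]
    exact hB
  exact h2

/-- the elements fixing a flat pointwise -/
theorem fix_fl_iff [Finite Ω] (hB : 1 ≤ B) {a : Ω} {T : Finset (Fin m)} (hT : T.card + p ≤ m) (hp : 1 ≤ p) {x : Perm Ω}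
    (hx : x ∈ XX) : (∀ y ∈ Fl g a T, x y = y) ↔ (x a = a ∧ Disjoint (g.P a x) T) := by
  constructor
  · intro h
    have hxa := h a (base_mem_fl g a T)
    refine ⟨hxa, ?_⟩
    rw [Finset.disjoint_right]
    intro i hi
    obtain ⟨b, hab, hnf, hS⟩ := exists_single g hB a i
    have hb : b ∈ Fl g a T := (mem_fl g hT hp).2 (Or.inr ⟨hab, hnf, by rw [hS]; simpa using hi⟩)
    have h1 := (g.fix_iff a b hab hnf x hx hxa).1 (h b hb)
    rw [hS, Finset.disjoint_singleton_right] at h1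
    exact h1
  · rintro ⟨h1, h2⟩ y hy
    exact hy x hx h1 h2

/-- **KEY: change of the base point of a flat** -/
theorem key [Finite Ω] (hB : 1 ≤ B) (hp : 1 ≤ p) {a c : Ω} {T : Finset (Fin m)} (hT : T.card + p ≤ m)
    (hc : c ∈ Fl g a T) : ∃ T' : Finset (Fin m), T'.card = T.card ∧ Fl g c T' = Fl g a T := by
  classical
  obtain ⟨x0, hx0, hx0a, hx0T⟩ := exists_x' g (a := a) hT
  have hfix0 : ∀ y ∈ Fl g a T, x0 y = y := fun y hy => hy x0 hx0 hx0a hx0T
  have hnf : ∀ y ∈ Fl g a T, NF XX c y := fun y hy => ⟨x0, hx0, hfix0 c hc, hfix0 y hy⟩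
  set T' : Finset (Fin m) := Finset.univ.filter fun i => ∃ y ∈ Fl g a T, c ≠ y ∧ i ∈ g.S c y with hT'
  have h1 : ∀ x ∈ XX, (∀ y ∈ Fl g a T, x y = y) ↔ (x c = c ∧ Disjoint (g.P c x) T') := by
    intro x hx
    constructor
    · intro h
      refine ⟨h c hc, ?_⟩
      rw [Finset.disjoint_right]
      intro i hi
      rw [hT', Finset.mem_filter] at hi
      obtain ⟨-, y, hy, hcy, hi⟩ := hi
      have h2 := (g.fix_iff c y hcy (hnf y hy) x hx (h c hc)).1 (h y hy)
      exact Finset.disjoint_right.1 h2 hi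
    · rintro ⟨h2, h3⟩ y hy
      by_cases hcy : c = y
      · rw [← hcy]; exact h2
      · refine (g.fix_iff c y hcy (hnf y hy) x hx h2).2 ?_
        refine h3.mono_right ?_
        intro i hi
        rw [hT', Finset.mem_filter]
        exact ⟨Finset.mem_univ _, y, hy, hcy, hi⟩
  have hT'm : T'.card + p ≤ m := by
    obtain ⟨h2, h3⟩ := (h1 x0 hx0).1 hfix0
    have h4 := g.card_P c x0 hx0 h2
    have h5 : (g.P c x0 ∪ T').card = (g.P c x0).card + T'.card := Finset.card_union_of_disjoint h3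
    have h6 : (g.P c x0 ∪ T').card ≤ m := by
      have := Finset.card_le_univ (g.P c x0 ∪ T')
      rwa [Fintype.card_fin] at this
    omega
  have h2 : Fl g c T' = Fl g a T := by
    ext y
    constructor
    · intro hy x hx hxa hxT
      obtain ⟨h3, h4⟩ := (h1 x hx).1 ((fix_fl_iff g hB hT hp hx).2 ⟨hxa, hxT⟩)
      exact hy x hx h3 h4
    · intro hy x hx hxc hxT
      exact (h1 x hx).2 ⟨hxc, hxT⟩ y hy
  refine ⟨T', ?_, h2⟩
  have h3 := ncard_fl g (a := c) hT'm hp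
  rw [h2, ncard_fl g hT hp] at h3
  exact (size_inj hB h3).symm

/-- the closure of two points -/
def cl (XX : Set (Perm Ω)) (a b : Ω) : Set Ω := {y | ∀ x ∈ XX, x a = a → x b = b → x y = y}

theorem cl_comm (a b : Ω) : cl XX a b = cl XX b a := by
  ext y
  exact ⟨fun h x hx h1 h2 => h x hx h2 h1, fun h x hx h1 h2 => h x hx h2 h1⟩

theorem cl_eq {a b : Ω} (hab : a ≠ b) (hnf : NF XX a b) : cl XX a b = Fl g a (g.S a b) := by
  ext y
  constructor
  · intro h x hx hxa hd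
    exact h x hx hxa ((g.fix_iff a b hab hnf x hx hxa).2 hd)
  · intro h x hx hxa hxb
    exact h x hx hxa ((g.fix_iff a b hab hnf x hx hxa).1 hxb)

theorem left_mem_cl (a b : Ω) : a ∈ cl XX a b := fun _ _ h _ => h

theorem right_mem_cl (a b : Ω) : b ∈ cl XX a b := fun _ _ _ h => h

/-- a flat is closed -/
theorem cl_subset_fl {a : Ω} {T : Finset (Fin m)} {b c : Ω}
    (hb : b ∈ Fl g a T) (hc : c ∈ Fl g a T) : cl XX b c ⊆ Fl g a T := by
  intro y hy x hx hxa hxT
  exact hy x hx (hb x hx hxa hxT) (hc x hx hxa hxT)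

section Lines

variable (hm : p + 3 ≤ m) (hp : 1 ≤ p) (hB : 1 ≤ B)
include hm hp hB

theorem card_S_le {a b : Ω} (hab : a ≠ b) (hnf : NF XX a b) : (g.S a b).card + p ≤ m := by
  have := (g.card_S a b hab hnf).2
  omega

theorem card_symm [Finite Ω] {a b : Ω} (hab : a ≠ b) (hnf : NF XX a b) : (g.S a b).card = (g.S b a).card := by
  have h1 := cl_eq g hab hnf
  have h2 := cl_eq g hab.symm (nf_symm hnf)
  rw [cl_comm, h2] at h1
  have h3 := ncard_fl g (a := a) (card_S_le g hm hp hB hab hnf) hp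
  have h4 := ncard_fl g (a := b) (card_S_le g hm hp hB hab.symm (nf_symm hnf)) hp
  rw [← h1, h4] at h3
  exact (size_inj hB h3).symm

theorem near_symm [Finite Ω] {a b : Ω} (h : g.Near a b) : g.Near b a := by
  obtain ⟨h1, h2, h3⟩ := h
  exact ⟨h1.symm, nf_symm h2, by rw [← card_symm g hm hp hB h1 h2, h3]⟩

/-- points of the line through `a`, `b` -/
theorem mem_cl_iff [Finite Ω] {a b y : Ω} (h : g.Near a b) :
    y ∈ cl XX a b ↔ y = a ∨ (g.Near a y ∧ g.S a y = g.S a b) := by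
  rw [cl_eq g h.1 h.2.1, mem_fl g (card_S_le g hm hp hB h.1 h.2.1) hp]
  constructor
  · rintro (h1 | ⟨h1, h2, h3⟩)
    · exact Or.inl h1
    · right
      have h4 : g.S a y = g.S a b := by
        refine Finset.eq_of_subset_of_card_le h3 ?_
        rw [h.2.2]
        exact (g.card_S a y h1 h2).1
      exact ⟨⟨h1, h2, by rw [h4, h.2.2]⟩, h4⟩
  · rintro (h1 | ⟨h1, h2⟩)
    · exact Or.inl h1
    · exact Or.inr ⟨h1.1, h1.2.1, h2.subset⟩

/-- any two points of a line are near, and span the line -/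
theorem line_eq [Finite Ω] {a b y z : Ω} (h : g.Near a b) (hy : y ∈ cl XX a b) (hz : z ∈ cl XX a b) (hyz : y ≠ z) :
    g.Near y z ∧ cl XX y z = cl XX a b := by
  have key1 : ∀ {c d w : Ω}, g.Near c d → w ∈ cl XX c d → w ≠ c → g.Near c w ∧ cl XX c w = cl XX c d := by
    intro c d w hcd hw hwc
    rcases (mem_cl_iff g hm hp hB hcd).1 hw with h1 | ⟨h1, h2⟩
    · exact absurd h1 hwc
    · refine ⟨h1, ?_⟩
      rw [cl_eq g h1.1 h1.2.1, cl_eq g hcd.1 hcd.2.1, h2]
  by_cases hya : y = a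
  · subst hya
    exact key1 h hz hyz.symm
  · obtain ⟨h1, h2⟩ := key1 h hy hya
    have h3 := near_symm g hm hp hB h1
    rw [← h2, cl_comm] at hz
    obtain ⟨h4, h5⟩ := key1 h3 hz hyz.symm
    exact ⟨h4, by rw [h5, cl_comm, h2]⟩

end Lines

section TwoOne

variable {g : Geo p m 2 1 XX}

/-- the points near `b` of a flat with base point `b` -/
theorem near_fl_iff (hp : 1 ≤ p) {b : Ω} {T : Finset (Fin m)} (hT : T.card + p ≤ m) {y : Ω} (hy : y ∈ Fl g b T)
    (h : g.Near b y) : ∃ k ∈ T, g.S b y = {k} := by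
  obtain ⟨k, hk⟩ := Finset.card_eq_one.1 h.2.2
  refine ⟨k, ?_, hk⟩
  rcases (mem_fl g hT hp).1 hy with h1 | ⟨-, -, h1⟩
  · exact absurd h1.symm h.1
  · rw [hk] at h1
    exact h1 (Finset.mem_singleton_self k)

/-- in a flat of rank two all points but one are near to a given point -/
theorem exists_far [Finite Ω] (hm : p + 3 ≤ m) (hp : 1 ≤ p) {b : Ω} {T : Finset (Fin m)} (hT : T.card = 2) :
    ∃ f ∈ Fl g b T, f ≠ b ∧ ∀ y ∈ Fl g b T, y ≠ b → y ≠ f → g.Near b y := by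
  have hTm : T.card + p ≤ m := by omega
  obtain ⟨i, j, hij, rfl⟩ := Finset.card_eq_two.1 hT
  have h1 := g.card_ε b i j hij
  rw [Set.ncard_eq_one] at h1
  obtain ⟨f, hf⟩ := h1
  have hf' : f ∈ {y | b ≠ y ∧ NF XX b y ∧ g.S b y = {i, j}} := by rw [hf]; exact Set.mem_singleton f
  refine ⟨f, (mem_fl g hTm hp).2 (Or.inr ⟨hf'.1, hf'.2.1, hf'.2.2.subset⟩), hf'.1.symm, ?_⟩
  intro y hy hyb hyf
  rcases (mem_fl g hTm hp).1 hy with h2 | ⟨h2, h3, h4⟩
  · exact absurd h2 hyb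
  · refine ⟨h2, h3, ?_⟩
    by_contra h5
    have h6 : (g.S b y).card = 2 := by
      have := g.card_S b y h2 h3
      omega
    have h7 : g.S b y = {i, j} := Finset.eq_of_subset_of_card_le h4 (by rw [h6, hT])
    have h8 : y ∈ {y | b ≠ y ∧ NF XX b y ∧ g.S b y = {i, j}} := ⟨h2, h3, h7⟩
    rw [hf] at h8
    exact hyf h8

/-- the two points of type `{i}` -/
theorem exists_pair (g : Geo p m 2 1 XX) [Finite Ω] (a : Ω) (i : Fin m) :
    ∃ b b', b ≠ b' ∧ g.Near a b ∧ g.Near a b' ∧ g.S a b = {i} ∧ g.S a b' = {i} ∧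
      ∀ y, g.Near a y → g.S a y = {i} → y = b ∨ y = b' := by
  have h1 := g.card_B a i
  rw [Set.ncard_eq_two] at h1
  obtain ⟨b, b', hne, h⟩ := h1
  have hb : b ∈ {b | a ≠ b ∧ NF XX a b ∧ g.S a b = {i}} := by rw [h]; exact Set.mem_insert _ _
  have hb' : b' ∈ {b | a ≠ b ∧ NF XX a b ∧ g.S a b = {i}} := by rw [h]; exact Set.mem_insert_of_mem _ rfl
  refine ⟨b, b', hne, ⟨hb.1, hb.2.1, by rw [hb.2.2, Finset.card_singleton]⟩,
    ⟨hb'.1, hb'.2.1, by rw [hb'.2.2, Finset.card_singleton]⟩, hb.2.2, hb'.2.2, ?_⟩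
  intro y hy hS
  have h2 : y ∈ {b | a ≠ b ∧ NF XX a b ∧ g.S a b = {i}} := ⟨hy.1, hy.2.1, hS⟩
  rw [h] at h2
  exact h2

/-- **rank two**: a point of one line through `a` is near to exactly one point of another line -/
theorem one [Finite Ω] (hm : p + 3 ≤ m) (hp : 1 ≤ p) {a b : Ω} {j : Fin m} (hab : g.Near a b) (hj : g.S a b ≠ {j}) :
    ∃ c, (g.Near a c ∧ g.S a c = {j} ∧ g.Near b c) ∧ ∀ c', g.Near a c' → g.S a c' = {j} → g.Near b c' → c' = c := by
  obtain ⟨i, hi⟩ := Finset.card_eq_one.1 hab.2.2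
  have hij : i ≠ j := by rintro rfl; exact hj hi
  obtain ⟨c, c', hcc, hc, hc', hSc, hSc', hall⟩ := exists_pair g a j
  have hT : ({i, j} : Finset (Fin m)).card = 2 := Finset.card_pair hij
  have hTm : ({i, j} : Finset (Fin m)).card + p ≤ m := by omega
  have hbQ : b ∈ Fl g a {i, j} := (mem_fl g hTm hp).2 (Or.inr ⟨hab.1, hab.2.1, by rw [hi]; simp⟩)
  have hcQ : c ∈ Fl g a {i, j} := (mem_fl g hTm hp).2 (Or.inr ⟨hc.1, hc.2.1, by rw [hSc]; simp⟩)
  have hcQ' : c' ∈ Fl g a {i, j} := (mem_fl g hTm hp).2 (Or.inr ⟨hc'.1, hc'.2.1, by rw [hSc']; simp⟩)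
  obtain ⟨T', hT', hFl⟩ := key g (by norm_num) hp hTm hbQ
  rw [hT] at hT'
  have hT'm : T'.card + p ≤ m := by omega
  obtain ⟨f, hf, hfb, hfar⟩ := exists_far hm hp hT' (g := g) (b := b)
  -- not both are near
  have hnot : ¬ (g.Near b c ∧ g.Near b c') := by
    rintro ⟨h1, h2⟩
    have haQ : a ∈ Fl g b T' := by rw [hFl]; exact base_mem_fl g a _
    obtain ⟨k, hk, hSa⟩ := near_fl_iff hp hT'm haQ (near_symm g hm hp (by norm_num) hab)
    obtain ⟨l, hl, hSl⟩ := near_fl_iff hp hT'm (by rw [hFl]; exact hcQ) h1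
    obtain ⟨l', hl', hSl'⟩ := near_fl_iff hp hT'm (by rw [hFl]; exact hcQ') h2
    have hne : ∀ {d : Ω}, g.Near a d → g.S a d = {j} → g.Near b d → g.S b d ≠ g.S b a := by
      intro d h3 h4 h5 h6
      have h7 : d ∈ cl XX b a :=
        (mem_cl_iff g hm hp (by norm_num) (near_symm g hm hp (by norm_num) hab)).2 (Or.inr ⟨h5, h6⟩)
      rw [cl_comm] at h7
      rcases (mem_cl_iff g hm hp (by norm_num) hab).1 h7 with h8 | ⟨-, h8⟩
      · exact h3.1 h8.symm
      · rw [h4, hi] at h8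
        exact hij (Finset.singleton_injective h8).symm
    have h3 : l ≠ k := by
      rintro rfl
      exact hne hc hSc h1 (by rw [hSl, hSa])
    have h4 : l' ≠ k := by
      rintro rfl
      exact hne hc' hSc' h2 (by rw [hSl', hSa])
    have h5 : l = l' := by
      obtain ⟨s, t, hst, rfl⟩ := Finset.card_eq_two.1 hT'
      simp only [Finset.mem_insert, Finset.mem_singleton] at hk hl hl'
      rcases hk with rfl | rfl <;> rcases hl with rfl | rfl <;> rcases hl' with rfl | rfl <;> simp_all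
    subst h5
    have h6 : c' ∈ cl XX b c := (mem_cl_iff g hm hp (by norm_num) h1).2 (Or.inr ⟨h2, by rw [hSl, hSl']⟩)
    have h7 := (line_eq g hm hp (by norm_num) h1 (right_mem_cl b c) h6 hcc).2
    have h8 : c' ∈ cl XX a c := (mem_cl_iff g hm hp (by norm_num) hc).2 (Or.inr ⟨hc', by rw [hSc, hSc']⟩)
    have h9 := (line_eq g hm hp (by norm_num) hc (right_mem_cl a c) h8 hcc).2
    have h10 : b ∈ cl XX a c := by rw [← h9, h7]; exact left_mem_cl b c
    rcases (mem_cl_iff g hm hp (by norm_num) hc).1 h10 with h11 | ⟨-, h11⟩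
    · exact hab.1 h11.symm
    · rw [hi, hSc] at h11
      exact hij (Finset.singleton_injective h11)
  have hcb : c ≠ b := by
    rintro rfl
    rw [hi] at hSc
    exact hij (Finset.singleton_injective hSc)
  have hcb' : c' ≠ b := by
    rintro rfl
    rw [hi] at hSc'
    exact hij (Finset.singleton_injective hSc')
  by_cases hcf : c = f
  · have h1 : g.Near b c' := hfar c' (by rw [hFl]; exact hcQ') hcb' (by rw [← hcf]; exact hcc.symm)
    refine ⟨c', ⟨hc', hSc', h1⟩, ?_⟩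
    intro d hd hSd hbd
    rcases hall d hd hSd with rfl | rfl
    · exact absurd ⟨hbd, h1⟩ hnot
    · rfl
  · have h1 : g.Near b c := hfar c (by rw [hFl]; exact hcQ) hcb hcf
    refine ⟨c, ⟨hc, hSc, h1⟩, ?_⟩
    intro d hd hSd hbd
    rcases hall d hd hSd with rfl | rfl
    · rfl
    · exact absurd ⟨h1, hbd⟩ hnot

/-- **rank three: coherence** -/
theorem coh [Finite Ω] (hm : p + 3 ≤ m) (hp : 1 ≤ p) {a b₁ b₂ b₃ : Ω} (h1 : g.Near a b₁) (h2 : g.Near a b₂)
    (h3 : g.Near a b₃) (h12 : g.S a b₁ ≠ g.S a b₂) (h13 : g.S a b₁ ≠ g.S a b₃) (h23 : g.S a b₂ ≠ g.S a b₃)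
    (n12 : g.Near b₁ b₂) (n23 : g.Near b₂ b₃) : g.Near b₁ b₃ := by
  by_contra hn
  have hB : 1 ≤ 2 := by norm_num
  have sy : ∀ {x y : Ω}, g.Near x y → g.Near y x := fun h => near_symm g hm hp hB h
  have mc : ∀ {x y z : Ω}, g.Near x y → (z ∈ cl XX x y ↔ z = x ∨ (g.Near x z ∧ g.S x z = g.S x y)) :=
    fun h => mem_cl_iff g hm hp hB h
  obtain ⟨i₁, e1⟩ := Finset.card_eq_one.1 h1.2.2
  obtain ⟨i₂, e2⟩ := Finset.card_eq_one.1 h2.2.2
  obtain ⟨i₃, e3⟩ := Finset.card_eq_one.1 h3.2.2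
  have i12 : i₁ ≠ i₂ := by rintro rfl; exact h12 (by rw [e1, e2])
  have i13 : i₁ ≠ i₃ := by rintro rfl; exact h13 (by rw [e1, e3])
  have i23 : i₂ ≠ i₃ := by rintro rfl; exact h23 (by rw [e2, e3])
  -- `c` is the point of the third line near `b₁`
  obtain ⟨c, ⟨hc, hSc, n1c⟩, -⟩ := one hm hp h1 (j := i₃) (by rw [← e3]; exact h13)
  have hcb3 : c ≠ b₃ := by rintro rfl; exact hn n1c
  -- `b₂` is not near `c`
  have n2c : ¬ g.Near b₂ c := by
    intro h
    obtain ⟨d, -, hd⟩ := one hm hp h2 (j := i₃) (by rw [← e3]; exact h23)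
    have f1 := hd b₃ h3 e3 n23
    have f2 := hd c hc hSc h
    exact hcb3 (by rw [f1, f2])
  -- the lines `b₁ b₂` and `b₁ c` are different
  have hS1 : g.S b₁ b₂ ≠ g.S b₁ c := by
    intro h
    have h4 : c ∈ cl XX b₁ b₂ := (mc n12).2 (Or.inr ⟨n1c, h.symm⟩)
    have hb2c : b₂ ≠ c := by
      rintro rfl
      rw [e2] at hSc
      exact i23 (Finset.singleton_injective hSc)
    exact n2c (line_eq g hm hp hB n12 (right_mem_cl _ _) h4 hb2c).1
  -- `d` is the point of the line `b₁ c` near `b₂`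
  obtain ⟨k, hk⟩ := Finset.card_eq_one.1 n1c.2.2
  obtain ⟨d, ⟨n1d, hSd, n2d⟩, -⟩ := one hm hp n12 (j := k) (by rw [← hk]; exact hS1)
  have hdc : d ≠ c := by rintro rfl; exact n2c n2d
  have hdl : d ∈ cl XX b₁ c := (mc n1c).2 (Or.inr ⟨n1d, by rw [hSd, hk]⟩)
  -- `d` from `a`
  have hT13 : ({i₁, i₃} : Finset (Fin m)).card + p ≤ m := by
    rw [Finset.card_pair i13]; omega
  have hd13 : d ∈ Fl g a {i₁, i₃} := by
    refine cl_subset_fl g ?_ ?_ hdl
    · exact (mem_fl g hT13 hp).2 (Or.inr ⟨h1.1, h1.2.1, by rw [e1]; simp⟩)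
    · exact (mem_fl g hT13 hp).2 (Or.inr ⟨hc.1, hc.2.1, by rw [hSc]; simp⟩)
  have hda : d ≠ a := by
    rintro rfl
    have f1 := (line_eq g hm hp hB n1c (left_mem_cl _ _) hdl n1d.1).2
    have f2 : c ∈ cl XX b₁ d := by rw [f1]; exact right_mem_cl _ _
    rw [cl_comm] at f2
    rcases (mc h1).1 f2 with f3 | ⟨-, f3⟩
    · exact hc.1 f3.symm
    · rw [hSc, e1] at f3
      exact i13 (Finset.singleton_injective f3).symm
  obtain ⟨had, nfad, hSad⟩ : a ≠ d ∧ NF XX a d ∧ g.S a d ⊆ {i₁, i₃} := by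
    rcases (mem_fl g hT13 hp).1 hd13 with h | h
    · exact absurd h hda
    · exact h
  have hne : (g.S a d).Nonempty := Finset.card_pos.1 (g.card_S a d had nfad).1
  -- the rank three flat
  have hT3 : ({i₁, i₂, i₃} : Finset (Fin m)).card = 3 := by
    rw [Finset.card_insert_of_notMem (by simp [i12, i13]), Finset.card_pair i23]
  have hT3m : ({i₁, i₂, i₃} : Finset (Fin m)).card + p ≤ m := by omega
  have m1 : b₁ ∈ Fl g a {i₁, i₂, i₃} := (mem_fl g hT3m hp).2 (Or.inr ⟨h1.1, h1.2.1, by rw [e1]; simp⟩)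
  have m2 : b₂ ∈ Fl g a {i₁, i₂, i₃} := (mem_fl g hT3m hp).2 (Or.inr ⟨h2.1, h2.2.1, by rw [e2]; simp⟩)
  have m3 : b₃ ∈ Fl g a {i₁, i₂, i₃} := (mem_fl g hT3m hp).2 (Or.inr ⟨h3.1, h3.2.1, by rw [e3]; simp⟩)
  have md : d ∈ Fl g a {i₁, i₂, i₃} := by
    refine (mem_fl g hT3m hp).2 (Or.inr ⟨had, nfad, hSad.trans ?_⟩)
    intro x hx
    simp only [Finset.mem_insert, Finset.mem_singleton] at hx ⊢
    tauto
  obtain ⟨T', hT', hFl⟩ := key g hB hp hT3m m2
  rw [hT3] at hT'
  have hT'm : T'.card + p ≤ m := by omega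
  obtain ⟨k1, hk1, s1⟩ := near_fl_iff (g := g) hp hT'm (by rw [hFl]; exact base_mem_fl g a _) (sy h2)
  obtain ⟨k2, hk2, s2⟩ := near_fl_iff (g := g) hp hT'm (by rw [hFl]; exact m1) (sy n12)
  obtain ⟨k3, hk3, s3⟩ := near_fl_iff (g := g) hp hT'm (by rw [hFl]; exact m3) n23
  obtain ⟨k4, hk4, s4⟩ := near_fl_iff (g := g) hp hT'm (by rw [hFl]; exact md) n2d
  have q12 : k1 ≠ k2 := by
    rintro rfl
    have f1 : b₁ ∈ cl XX b₂ a := (mc (sy h2)).2 (Or.inr ⟨sy n12, by rw [s1, s2]⟩)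
    rw [cl_comm] at f1
    rcases (mc h2).1 f1 with f2 | ⟨-, f2⟩
    · exact h1.1 f2.symm
    · exact h12 f2
  have q13 : k1 ≠ k3 := by
    rintro rfl
    have f1 : b₃ ∈ cl XX b₂ a := (mc (sy h2)).2 (Or.inr ⟨n23, by rw [s1, s3]⟩)
    rw [cl_comm] at f1
    rcases (mc h2).1 f1 with f2 | ⟨-, f2⟩
    · exact h3.1 f2.symm
    · exact h23 f2.symm
  have q23 : k2 ≠ k3 := by
    rintro rfl
    have f1 : b₃ ∈ cl XX b₂ b₁ := (mc (sy n12)).2 (Or.inr ⟨n23, by rw [s2, s3]⟩)
    have f2 : b₁ ≠ b₃ := by rintro rfl; exact h13 rfl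
    exact hn (line_eq g hm hp hB (sy n12) (right_mem_cl _ _) f1 f2).1
  have hT'eq : T' = {k1, k2, k3} := by
    symm
    refine Finset.eq_of_subset_of_card_le ?_ ?_
    · intro x hx
      simp only [Finset.mem_insert, Finset.mem_singleton] at hx
      rcases hx with rfl | rfl | rfl
      · exact hk1
      · exact hk2
      · exact hk3
    · rw [hT', Finset.card_insert_of_notMem (by simp [q12, q13]), Finset.card_pair q23]
  rw [hT'eq] at hk4
  simp only [Finset.mem_insert, Finset.mem_singleton] at hk4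
  rcases hk4 with rfl | rfl | rfl
  · -- `d` on the line `b₂ a`
    have f1 : d ∈ cl XX b₂ a := (mc (sy h2)).2 (Or.inr ⟨n2d, by rw [s1, s4]⟩)
    rw [cl_comm] at f1
    rcases (mc h2).1 f1 with f2 | ⟨-, f2⟩
    · exact hda f2
    · rw [f2, e2] at hSad
      have f3 := hSad (Finset.mem_singleton_self i₂)
      simp only [Finset.mem_insert, Finset.mem_singleton] at f3
      rcases f3 with f3 | f3
      · exact i12 f3.symm
      · exact i23 f3
  · -- `d` on the line `b₂ b₁`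
    have f1 : d ∈ cl XX b₂ b₁ := (mc (sy n12)).2 (Or.inr ⟨n2d, by rw [s2, s4]⟩)
    have f2 := (line_eq g hm hp hB (sy n12) (right_mem_cl _ _) f1 n1d.1).2
    have f3 := (line_eq g hm hp hB n1c (left_mem_cl _ _) hdl n1d.1).2
    have f4 : c ∈ cl XX b₂ b₁ := by rw [← f2, f3]; exact right_mem_cl _ _
    have hb2c : b₂ ≠ c := by
      rintro rfl
      rw [e2] at hSc
      exact i23 (Finset.singleton_injective hSc)
    exact n2c (line_eq g hm hp hB (sy n12) (left_mem_cl _ _) f4 hb2c).1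
  · -- `d` on the line `b₂ b₃`
    have f1 : d ∈ cl XX b₂ b₃ := (mc n23).2 (Or.inr ⟨n2d, by rw [s3, s4]⟩)
    have hT23 : ({i₂, i₃} : Finset (Fin m)).card + p ≤ m := by
      rw [Finset.card_pair i23]; omega
    have f2 : d ∈ Fl g a {i₂, i₃} := by
      refine cl_subset_fl g ?_ ?_ f1
      · exact (mem_fl g hT23 hp).2 (Or.inr ⟨h2.1, h2.2.1, by rw [e2]; simp⟩)
      · exact (mem_fl g hT23 hp).2 (Or.inr ⟨h3.1, h3.2.1, by rw [e3]; simp⟩)
    have f3 : g.S a d ⊆ {i₂, i₃} := by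
      rcases (mem_fl g hT23 hp).1 f2 with h | h
      · exact absurd h hda
      · exact h.2.2
    have f4 : g.S a d = {i₃} := by
      apply Finset.Subset.antisymm
      · intro x hx
        have g1 := hSad hx
        have g2 := f3 hx
        simp only [Finset.mem_insert, Finset.mem_singleton] at g1 g2 ⊢
        rcases g1 with rfl | g1
        · rcases g2 with g2 | g2
          · exact absurd g2 i12
          · exact absurd g2 i13
        · exact g1
      · obtain ⟨x, hx⟩ := hne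
        have g1 := hSad hx
        have g2 := f3 hx
        simp only [Finset.mem_insert, Finset.mem_singleton] at g1 g2
        rw [Finset.singleton_subset_iff]
        rcases g1 with rfl | rfl
        · rcases g2 with g2 | g2
          · exact absurd g2 i12
          · exact absurd g2 i13
        · exact hx
    have nad : g.Near a d := ⟨had, nfad, by rw [f4, Finset.card_singleton]⟩
    obtain ⟨u, u', huu, -, -, -, -, hall⟩ := exists_pair g a i₃
    have g1 := hall b₃ h3 e3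
    have g2 := hall c hc hSc
    have g3 := hall d nad f4
    have hdb3 : d ≠ b₃ := by rintro rfl; exact hn n1d
    rcases g1 with g1 | g1 <;> rcases g2 with g2 | g2 <;> rcases g3 with g3 | g3 <;> simp_all

end TwoOne

end Cfsg.Agent.H29.PrA
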