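import Mathlib
import Cfsg.Agent.H29.PrA.Flat

/-!
# The case `B = 2`, `ε = 1` (S3618, part A, section 8; helper29)

* `NG` : the abstract structure (triangular graph), `NG.CC` the big cliques;
* `case21`.
-/

set_option autoImplicit false
set_option linter.unusedSectionVars false

open Equiv Equiv.Perm

namespace Cfsg.Agent.H29.PrA

open Cfsg.Agent.H411.PrA

universe u

theorem inv_app {Ω : Type u} (k : Perm Ω) (a : Ω) : k⁻¹ (k a) = a := k.symm_apply_apply a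

theorem app_inv {Ω : Type u} (k : Perm Ω) (a : Ω) : k (k⁻¹ a) = a := k.apply_symm_apply a

/-- abstract structure: `m` lines through each point, two other points on each line -/
structure NG (Ω : Type u) (m : ℕ) where
  N : Ω → Ω → Prop
  ix : Ω → Ω → Fin m
  symm : ∀ {a b}, N a b → N b a
  ne : ∀ {a b}, N a b → a ≠ b
  tri : ∀ {a b y}, N a b → N a y → b ≠ y → ix a b = ix a y → N b y ∧ ix b a = ix b y
  pair : ∀ a i, ∃ b b', b ≠ b' ∧ N a b ∧ N a b' ∧ ix a b = i ∧ ix a b' = i ∧ ∀ y, N a y → ix a y = i → y = b ∨ y = b'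
  one : ∀ {a b j}, N a b → ix a b ≠ j → ∃ c, (N a c ∧ ix a c = j ∧ N b c) ∧ ∀ c', N a c' → ix a c' = j → N b c' → c' = c
  coh : ∀ {a b₁ b₂ b₃}, N a b₁ → N a b₂ → N a b₃ → ix a b₁ ≠ ix a b₂ → ix a b₁ ≠ ix a b₃ → ix a b₂ ≠ ix a b₃ →
    N b₁ b₂ → N b₂ b₃ → N b₁ b₃
  conn : ∀ a b, Relation.ReflTransGen N a b

namespace NG

variable {Ω : Type u} [Fintype Ω] [DecidableEq Ω] {m : ℕ} (G : NG Ω m)

open Classical in
/-- the big clique through two near points -/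
noncomputable def C (a b : Ω) : Finset Ω :=
  Finset.univ.filter fun y => y = a ∨ y = b ∨ (G.N a y ∧ G.N b y ∧ G.ix a y ≠ G.ix a b)

theorem mem_C {a b y : Ω} : y ∈ G.C a b ↔ y = a ∨ y = b ∨ (G.N a y ∧ G.N b y ∧ G.ix a y ≠ G.ix a b) := by
  simp [C]

theorem left_mem (a b : Ω) : a ∈ G.C a b := G.mem_C.2 (Or.inl rfl)

theorem right_mem (a b : Ω) : b ∈ G.C a b := G.mem_C.2 (Or.inr (Or.inl rfl))

theorem C_comm {a b : Ω} (h : G.N a b) : G.C a b = G.C b a := by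
  have key : ∀ {a b : Ω}, G.N a b → G.C a b ⊆ G.C b a := by
    intro a b h y hy
    rw [mem_C] at hy ⊢
    rcases hy with rfl | rfl | ⟨h1, h2, h3⟩
    · exact Or.inr (Or.inl rfl)
    · exact Or.inl rfl
    · refine Or.inr (Or.inr ⟨h2, h1, fun h4 => h3 ?_⟩)
      exact (G.tri (G.symm h) h2 (G.ne h1) h4.symm).2.symm
  exact Finset.Subset.antisymm (key h) (key (G.symm h))

theorem C_sub {a b c : Ω} (hb : G.N a b) (hc : G.N a c) (hbc : G.N b c) (hix : G.ix a b ≠ G.ix a c) :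
    G.C a b ⊆ G.C a c := by
  intro y hy
  rw [mem_C] at hy ⊢
  rcases hy with rfl | rfl | ⟨h1, h2, h3⟩
  · exact Or.inl rfl
  · exact Or.inr (Or.inr ⟨hb, G.symm hbc, hix⟩)
  · by_cases hyc : y = c
    · exact Or.inr (Or.inl hyc)
    · have h4 : G.ix a y ≠ G.ix a c := by
        intro h5
        obtain ⟨d, -, hd⟩ := G.one hb hix
        exact hyc ((hd y h1 h5 h2).trans (hd c hc rfl hbc).symm)
      exact Or.inr (Or.inr ⟨h1, G.coh hc hb h1 hix.symm h4.symm h3.symm (G.symm hbc) h2, h4⟩)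

theorem C_change {a b c : Ω} (hb : G.N a b) (hc : c ∈ G.C a b) (hca : c ≠ a) : G.N a c ∧ G.C a c = G.C a b := by
  rcases G.mem_C.1 hc with h | rfl | ⟨h1, h2, h3⟩
  · exact absurd h hca
  · exact ⟨hb, rfl⟩
  · exact ⟨h1, Finset.Subset.antisymm (G.C_sub h1 hb (G.symm h2) h3) (G.C_sub hb h1 h2 h3.symm)⟩

theorem C_any {a b c d : Ω} (hb : G.N a b) (hc : c ∈ G.C a b) (hd : d ∈ G.C a b) (hcd : c ≠ d) :
    G.N c d ∧ G.C c d = G.C a b := by
  by_cases hca : c = a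
  · subst hca
    exact G.C_change hb hd hcd.symm
  · obtain ⟨h1, h2⟩ := G.C_change hb hc hca
    rw [← h2, G.C_comm h1] at hd
    obtain ⟨h3, h4⟩ := G.C_change (G.symm h1) hd hcd.symm
    exact ⟨h3, by rw [h4, ← G.C_comm h1, h2]⟩

/-- `ix a` is injective on the clique -/
theorem ix_inj {a b y z : Ω} (hb : G.N a b) (hy : y ∈ G.C a b) (hz : z ∈ G.C a b) (hya : y ≠ a) (hza : z ≠ a)
    (h : G.ix a y = G.ix a z) : y = z := by
  by_contra hyz
  obtain ⟨h1, h2⟩ := G.C_change hb hy hya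
  rw [← h2] at hz
  rcases G.mem_C.1 hz with h3 | h3 | ⟨-, -, h3⟩
  · exact hza h3
  · exact hyz h3.symm
  · exact h3 h.symm

theorem ix_surj {a b : Ω} (hb : G.N a b) (j : Fin m) : ∃ y ∈ G.C a b, y ≠ a ∧ G.ix a y = j := by
  by_cases hj : G.ix a b = j
  · exact ⟨b, G.right_mem a b, (G.ne hb).symm, hj⟩
  · obtain ⟨c, ⟨h1, h2, h3⟩, -⟩ := G.one hb hj
    exact ⟨c, G.mem_C.2 (Or.inr (Or.inr ⟨h1, h3, by rw [h2]; exact Ne.symm hj⟩)), (G.ne h1).symm, h2⟩

theorem card_filter {a b : Ω} (hb : G.N a b) (P : Finset (Fin m)) :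
    (((G.C a b).erase a).filter fun y => G.ix a y ∈ P).card = P.card := by
  refine Finset.card_nbij (G.ix a) ?_ ?_ ?_
  · intro y hy
    exact (Finset.mem_filter.1 hy).2
  · intro y hy z hz h
    rw [Finset.mem_coe, Finset.mem_filter, Finset.mem_erase] at hy hz
    exact G.ix_inj hb hy.1.2 hz.1.2 hy.1.1 hz.1.1 h
  · intro j hj
    obtain ⟨y, h1, h2, h3⟩ := G.ix_surj hb j
    exact ⟨y, Finset.mem_coe.2 (Finset.mem_filter.2 ⟨Finset.mem_erase.2 ⟨h2, h1⟩, by rw [h3]; exact hj⟩), h3⟩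

theorem card_C {a b : Ω} (hb : G.N a b) : (G.C a b).card = m + 1 := by
  have h1 := G.card_filter hb Finset.univ
  rw [Finset.filter_true_of_mem (fun _ _ => Finset.mem_univ _), Finset.card_univ, Fintype.card_fin] at h1
  have h2 := Finset.card_erase_add_one (G.left_mem a b)
  omega

open Classical in
/-- the big cliques -/
noncomputable def CC : Finset (Finset Ω) := Finset.univ.filter fun D => ∃ a b, G.N a b ∧ D = G.C a b

theorem mem_CC {D : Finset Ω} : D ∈ G.CC ↔ ∃ a b, G.N a b ∧ D = G.C a b := by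
  simp [CC]

theorem C_mem {a b : Ω} (h : G.N a b) : G.C a b ∈ G.CC := G.mem_CC.2 ⟨a, b, h, rfl⟩

theorem eq_C {D : Finset Ω} (hD : D ∈ G.CC) {a : Ω} (ha : a ∈ D) : ∃ b, G.N a b ∧ D = G.C a b := by
  obtain ⟨c, d, h, rfl⟩ := G.mem_CC.1 hD
  by_cases hac : a = c
  · subst hac
    exact ⟨d, h, rfl⟩
  · obtain ⟨h1, h2⟩ := G.C_change h ha hac
    exact ⟨c, G.symm h1, by rw [G.C_comm (G.symm h1), h2]⟩

theorem eq_C' {D : Finset Ω} (hD : D ∈ G.CC) {a b : Ω} (ha : a ∈ D) (hb : b ∈ D) (hab : a ≠ b) :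
    G.N a b ∧ D = G.C a b := by
  obtain ⟨c, h, rfl⟩ := G.eq_C hD ha
  obtain ⟨h1, h2⟩ := G.C_any h ha hb hab
  exact ⟨h1, h2.symm⟩

theorem eq_of_two {D E : Finset Ω} (hD : D ∈ G.CC) (hE : E ∈ G.CC) {a b : Ω} (hab : a ≠ b) (h1 : a ∈ D) (h2 : b ∈ D)
    (h3 : a ∈ E) (h4 : b ∈ E) : D = E :=
  (G.eq_C' hD h1 h2 hab).2.trans (G.eq_C' hE h3 h4 hab).2.symm

/-- the other point of the line -/
theorem exists_other {a b : Ω} (h : G.N a b) :
    ∃ b', G.N a b' ∧ b' ≠ b ∧ G.ix a b' = G.ix a b ∧ b' ∉ G.C a b ∧ G.N b b' := by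
  obtain ⟨c, c', hne, h1, h2, h3, h4, h5⟩ := G.pair a (G.ix a b)
  have key : ∀ d, G.N a d → d ≠ b → G.ix a d = G.ix a b → G.N a d ∧ d ≠ b ∧ G.ix a d = G.ix a b ∧ d ∉ G.C a b ∧ G.N b d := by
    intro d f1 f2 f3
    refine ⟨f1, f2, f3, ?_, (G.tri h f1 f2.symm f3.symm).1⟩
    rw [mem_C]
    rintro (f4 | f4 | ⟨-, -, f4⟩)
    · exact G.ne f1 f4.symm
    · exact f2 f4
    · exact f4 f3
  rcases h5 b h rfl with rfl | rfl
  · exact ⟨c', key c' h2 hne.symm h4⟩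
  · exact ⟨c, key c h1 hne h3⟩

/-- **two cliques through each point** -/
theorem two_cliques (hm : 1 ≤ m) (a : Ω) : ∃ D ∈ G.CC, ∃ E ∈ G.CC, D ≠ E ∧ a ∈ D ∧ a ∈ E ∧
    ∀ X ∈ G.CC, a ∈ X → X = D ∨ X = E := by
  obtain ⟨b, b', hne, h1, h2, h3, h4, h5⟩ := G.pair a ⟨0, hm⟩
  have hb' : b' ∉ G.C a b := by
    rw [mem_C]
    rintro (f4 | f4 | ⟨-, -, f4⟩)
    · exact G.ne h2 f4.symm
    · exact hne f4.symm
    · exact f4 (h4.trans h3.symm)
  have hDE : G.C a b ≠ G.C a b' := by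
    intro h
    rw [h] at hb'
    exact hb' (G.right_mem a b')
  refine ⟨G.C a b, G.C_mem h1, G.C a b', G.C_mem h2, hDE, G.left_mem _ _, G.left_mem _ _, ?_⟩
  intro X hX haX
  obtain ⟨y, hy, rfl⟩ := G.eq_C hX haX
  have key : y ∈ G.C a b ∨ y ∈ G.C a b' := by
    by_cases hj : G.ix a y = ⟨0, hm⟩
    · rcases h5 y hy hj with rfl | rfl
      · exact Or.inl (G.right_mem _ _)
      · exact Or.inr (G.right_mem _ _)
    · obtain ⟨c, ⟨c1, c2, c3⟩, -⟩ := G.one (j := G.ix a y) h1 (by rw [h3]; exact Ne.symm hj)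
      obtain ⟨c', ⟨d1, d2, d3⟩, -⟩ := G.one (j := G.ix a y) h2 (by rw [h4]; exact Ne.symm hj)
      have hc : c ∈ G.C a b := G.mem_C.2 (Or.inr (Or.inr ⟨c1, c3, by rw [c2, h3]; exact hj⟩))
      have hc' : c' ∈ G.C a b' := G.mem_C.2 (Or.inr (Or.inr ⟨d1, d3, by rw [d2, h4]; exact hj⟩))
      by_cases hyc : y = c
      · rw [hyc]; exact Or.inl hc
      · by_cases hyc' : y = c'
        · rw [hyc']; exact Or.inr hc'
        · exfalso
          have hcc : c = c' := by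
            obtain ⟨u, u', -, -, -, -, -, hall⟩ := G.pair a (G.ix a y)
            have g1 := hall y hy rfl
            have g2 := hall c c1 c2
            have g3 := hall c' d1 d2
            rcases g1 with g1 | g1 <;> rcases g2 with g2 | g2 <;> rcases g3 with g3 | g3 <;> simp_all
          subst hcc
          exact hDE ((G.C_change h1 hc (G.ne c1).symm).2.symm.trans (G.C_change h2 hc' (G.ne c1).symm).2)
  rcases key with h | h
  · exact Or.inl (G.C_change h1 h (G.ne hy).symm).2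
  · exact Or.inr (G.C_change h2 h (G.ne hy).symm).2

theorem second_unique (hm : 1 ≤ m) {a : Ω} {D E X : Finset Ω} (hD : D ∈ G.CC) (hE : E ∈ G.CC) (hX : X ∈ G.CC)
    (haD : a ∈ D) (haE : a ∈ E) (haX : a ∈ X) (h1 : E ≠ D) (h2 : X ≠ D) : E = X := by
  obtain ⟨P, -, Q, -, -, -, -, hall⟩ := G.two_cliques hm a
  have g1 := hall D hD haD
  have g2 := hall E hE haE
  have g3 := hall X hX haX
  rcases g1 with g1 | g1 <;> rcases g2 with g2 | g2 <;> rcases g3 with g3 | g3 <;> simp_all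

/-- **the second cliques through two points of a clique meet** -/
theorem meet_of_base (hm : 1 ≤ m) {D E X : Finset Ω} (hD : D ∈ G.CC) (hE : E ∈ G.CC) (hX : X ∈ G.CC) {a b : Ω}
    (ha : a ∈ D) (hb : b ∈ D) (hab : a ≠ b) (haE : a ∈ E) (hbX : b ∈ X) (h1 : E ≠ D) (h2 : X ≠ D) :
    (E ∩ X).Nonempty := by
  obtain ⟨hN, hDC⟩ := G.eq_C' hD ha hb hab
  obtain ⟨b', f1, f2, f3, f4, f5⟩ := G.exists_other hN
  rw [← hDC] at f4
  have e1 : G.C a b' ≠ D := fun h => f4 (by rw [← h]; exact G.right_mem _ _)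
  have e2 : G.C b b' ≠ D := fun h => f4 (by rw [← h]; exact G.right_mem _ _)
  have e3 := G.second_unique hm hD hE (G.C_mem f1) ha haE (G.left_mem _ _) h1 e1
  have e4 := G.second_unique hm hD hX (G.C_mem f5) hb hbX (G.left_mem _ _) h2 e2
  exact ⟨b', Finset.mem_inter.2 ⟨by rw [e3]; exact G.right_mem _ _, by rw [e4]; exact G.right_mem _ _⟩⟩

/-- **any two cliques meet** -/
theorem meet (hm : 1 ≤ m) {D E : Finset Ω} (hD : D ∈ G.CC) (hE : E ∈ G.CC) : (E ∩ D).Nonempty := by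
  -- the cliques meeting `D` are closed under neighbours
  have step : ∀ X ∈ G.CC, (X ∩ D).Nonempty → ∀ c ∈ X, ∀ Y ∈ G.CC, c ∈ Y → (Y ∩ D).Nonempty := by
    intro X hX hXD c hcX Y hY hcY
    by_cases hcD : c ∈ D
    · exact ⟨c, Finset.mem_inter.2 ⟨hcY, hcD⟩⟩
    · obtain ⟨a, ha⟩ := hXD
      obtain ⟨haX, haD⟩ := Finset.mem_inter.1 ha
      by_cases hYX : Y = X
      · rw [hYX]
        exact ⟨a, ha⟩
      · have hDX : D ≠ X := by rintro rfl; exact hcD hcX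
        have hca : c ≠ a := by rintro rfl; exact hcD haD
        exact G.meet_of_base hm hX hY hD hcX haX hca hcY haD hYX hDX
  obtain ⟨a, b, hab, hDC⟩ := G.mem_CC.1 hD
  have haD : a ∈ D := by rw [hDC]; exact G.left_mem _ _
  obtain ⟨c, d, hcd, hEC⟩ := G.mem_CC.1 hE
  have hcE : c ∈ E := by rw [hEC]; exact G.left_mem _ _
  have key : ∀ y, Relation.ReflTransGen G.N a y → ∃ X ∈ G.CC, (X ∩ D).Nonempty ∧ y ∈ X := by
    intro y hy
    induction hy with
    | refl => exact ⟨D, hD, ⟨a, Finset.mem_inter.2 ⟨haD, haD⟩⟩, haD⟩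
    | tail _ hyz ih =>
      obtain ⟨X, hX, hXD, hyX⟩ := ih
      exact ⟨G.C _ _, G.C_mem hyz, step X hX hXD _ hyX _ (G.C_mem hyz) (G.left_mem _ _), G.right_mem _ _⟩
  obtain ⟨X, hX, hXD, hcX⟩ := key c (G.conn a c)
  exact step X hX hXD c hcX E hE hcE

theorem card_inter (hm : 1 ≤ m) {D E : Finset Ω} (hD : D ∈ G.CC) (hE : E ∈ G.CC) (hne : D ≠ E) :
    (D ∩ E).card = 1 := by
  obtain ⟨a, ha⟩ := G.meet hm hE hD
  rw [Finset.card_eq_one]
  refine ⟨a, ?_⟩
  ext b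
  rw [Finset.mem_singleton]
  constructor
  · intro hb
    by_contra hba
    obtain ⟨h1, h2⟩ := Finset.mem_inter.1 ha
    obtain ⟨h3, h4⟩ := Finset.mem_inter.1 hb
    exact hne (G.eq_of_two hD hE hba h3 h1 h4 h2)
  · rintro rfl
    exact ha

theorem card_through (hm : 1 ≤ m) (a : Ω) : (G.CC.filter fun D => a ∈ D).card = 2 := by
  obtain ⟨D, hD, E, hE, hne, haD, haE, hall⟩ := G.two_cliques hm a
  rw [Finset.card_eq_two]
  refine ⟨D, E, hne, ?_⟩
  ext X
  rw [Finset.mem_filter, Finset.mem_insert, Finset.mem_singleton]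
  constructor
  · rintro ⟨h1, h2⟩
    exact hall X h1 h2
  · rintro (rfl | rfl)
    · exact ⟨hD, haD⟩
    · exact ⟨hE, haE⟩

theorem card_CC [Nonempty Ω] (hm : 1 ≤ m) : G.CC.card = m + 2 := by
  obtain ⟨a⟩ := (inferInstance : Nonempty Ω)
  obtain ⟨D, hD, -, -, -, -, -, -⟩ := G.two_cliques hm a
  have h1 := Finset.sum_card_inter (s := D) (B := G.CC) (n := 2) (fun a _ => G.card_through hm a)
  rw [← Finset.add_sum_erase G.CC _ hD, Finset.inter_self] at h1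
  have h2 : ∑ x ∈ G.CC.erase D, (D ∩ x).card = (G.CC.erase D).card := by
    rw [Finset.card_eq_sum_ones]
    refine Finset.sum_congr rfl fun X hX => ?_
    obtain ⟨h3, h4⟩ := Finset.mem_erase.1 hX
    exact G.card_inter hm hD h4 h3.symm
  obtain ⟨b, c, hbc, hDC⟩ := G.mem_CC.1 hD
  have h3 : D.card = m + 1 := by rw [hDC]; exact G.card_C hbc
  have h4 := Finset.card_erase_add_one hD
  rw [h2, h3] at h1
  omega

end NG

section Final

variable {Ω : Type u} {p m : ℕ} {XX : Set (Perm Ω)}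

/-- the index of the line -/
noncomputable def ixg (g : Geo p m 2 1 XX) (hm : 1 ≤ m) (a b : Ω) : Fin m :=
  open Classical in if h : ∃ i, g.S a b = {i} then h.choose else ⟨0, hm⟩

theorem ixg_spec {g : Geo p m 2 1 XX} (hm : 1 ≤ m) {a b : Ω} (h : g.Near a b) : g.S a b = {ixg g hm a b} := by
  have h1 : ∃ i, g.S a b = {i} := Finset.card_eq_one.1 h.2.2
  rw [ixg, dif_pos h1]
  exact h1.choose_spec

theorem ixg_eq {g : Geo p m 2 1 XX} (hm : 1 ≤ m) {a b : Ω} (h : g.Near a b) {i : Fin m} :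
    ixg g hm a b = i ↔ g.S a b = {i} := by
  rw [ixg_spec hm h]
  exact ⟨fun h => by rw [h], fun h => Finset.singleton_injective h⟩

/-- the abstract structure of `g` -/
noncomputable def toNG [Finite Ω] (g : Geo p m 2 1 XX) (hm : p + 3 ≤ m) (hp : 1 ≤ p) (hc : g.Conn) : NG Ω m where
  N := g.Near
  ix := ixg g (by omega)
  symm h := near_symm g hm hp (by norm_num) h
  ne h := h.1
  tri := by
    intro a b y h1 h2 h3 h4
    rw [ixg_eq _ h1, ← ixg_spec _ h2] at h4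
    have h5 : y ∈ cl XX a b := (mem_cl_iff g hm hp (by norm_num) h1).2 (Or.inr ⟨h2, h4.symm⟩)
    obtain ⟨h6, h7⟩ := line_eq g hm hp (by norm_num) h1 (right_mem_cl _ _) h5 h3
    refine ⟨h6, ?_⟩
    have h8 := near_symm g hm hp (by norm_num) h1
    rw [ixg_eq _ h8, ← ixg_spec _ h6]
    have h9 : a ∈ cl XX b y := by rw [h7]; exact left_mem_cl _ _
    rcases (mem_cl_iff g hm hp (by norm_num) h6).1 h9 with h10 | ⟨-, h10⟩
    · exact absurd h10 h1.1
    · exact h10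
  pair := by
    intro a i
    obtain ⟨b, b', h1, h2, h3, h4, h5, h6⟩ := exists_pair g a i
    exact ⟨b, b', h1, h2, h3, (ixg_eq _ h2).2 h4, (ixg_eq _ h3).2 h5, fun y hy hi => h6 y hy ((ixg_eq _ hy).1 hi)⟩
  one := by
    intro a b j h1 h2
    obtain ⟨c, ⟨c1, c2, c3⟩, hc'⟩ := PrA.one hm hp h1 (j := j) (fun h => h2 ((ixg_eq _ h1).2 h))
    exact ⟨c, ⟨c1, (ixg_eq _ c1).2 c2, c3⟩, fun c' g1 g2 g3 => hc' c' g1 ((ixg_eq _ g1).1 g2) g3⟩
  coh := by
    intro a b₁ b₂ b₃ h1 h2 h3 h12 h13 h23 n12 n23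
    refine PrA.coh hm hp h1 h2 h3 ?_ ?_ ?_ n12 n23
    · exact fun h => h12 ((ixg_eq _ h1).2 (by rw [h, ← ixg_spec _ h2]))
    · exact fun h => h13 ((ixg_eq _ h1).2 (by rw [h, ← ixg_spec _ h3]))
    · exact fun h => h23 ((ixg_eq _ h2).2 (by rw [h, ← ixg_spec _ h3]))
  conn := hc

theorem near_conj [Finite Ω] (g : Geo p m 2 1 XX) (hm : p + 3 ≤ m) (hp : 1 ≤ p) {k : Perm Ω}
    (hk : ∀ x, x ∈ XX ↔ k * x * k⁻¹ ∈ XX) :
    (∀ a b y, y ∈ cl XX a b → k y ∈ cl XX (k a) (k b)) ∧ ∀ a b, g.Near a b → g.Near (k a) (k b) := by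
  have hback : ∀ x ∈ XX, k⁻¹ * x * k ∈ XX := by
    intro x hx
    rw [hk]
    have e : k * (k⁻¹ * x * k) * k⁻¹ = x := by group
    rwa [e]
  have hcl : ∀ a b y, y ∈ cl XX a b → k y ∈ cl XX (k a) (k b) := by
    intro a b y hy x hx hxa hxb
    have h1 := hy _ (hback x hx) (by
      rw [Perm.mul_apply, Perm.mul_apply, hxa, inv_app]) (by
      rw [Perm.mul_apply, Perm.mul_apply, hxb, inv_app])
    rw [Perm.mul_apply, Perm.mul_apply] at h1
    have h2 := congrArg k h1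
    rwa [app_inv] at h2
  refine ⟨hcl, ?_⟩
  intro a b h
  obtain ⟨h1, ⟨x, hx, hxa, hxb⟩, h3⟩ := h
  have hne : k a ≠ k b := fun h => h1 (k.injective h)
  have hnf : NF XX (k a) (k b) := by
    refine ⟨k * x * k⁻¹, (hk x).1 hx, ?_, ?_⟩
    · rw [Perm.mul_apply, Perm.mul_apply, inv_app, hxa]
    · rw [Perm.mul_apply, Perm.mul_apply, inv_app, hxb]
  refine ⟨hne, hnf, ?_⟩
  have h4 := ncard_fl g (a := a) (card_S_le g hm hp (by norm_num) h1 ⟨x, hx, hxa, hxb⟩) hp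
  have h5 := ncard_fl g (a := k a) (card_S_le g hm hp (by norm_num) hne hnf) hp
  rw [← cl_eq g h1 ⟨x, hx, hxa, hxb⟩] at h4
  rw [← cl_eq g hne hnf] at h5
  -- the closures have the same cardinality
  have hk' : ∀ x, x ∈ XX ↔ k⁻¹ * x * k⁻¹⁻¹ ∈ XX := by
    intro x
    rw [inv_inv]
    refine ⟨hback x, fun h => ?_⟩
    have h6 := (hk _).1 h
    have e : k * (k⁻¹ * x * k) * k⁻¹ = x := by group
    rwa [e] at h6
  have hle : (cl XX (k a) (k b)).ncard ≤ (cl XX a b).ncard := by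
    refine Set.ncard_le_ncard_of_injOn (k⁻¹ : Perm Ω) ?_ (k⁻¹ : Perm Ω).injective.injOn (Set.toFinite _)
    intro y hy z hz hza hzb
    have h6 := hy (k * z * k⁻¹) ((hk z).1 hz) (by
      rw [Perm.mul_apply, Perm.mul_apply, inv_app, hza]) (by
      rw [Perm.mul_apply, Perm.mul_apply, inv_app, hzb])
    rw [Perm.mul_apply, Perm.mul_apply] at h6
    have h7 := congrArg (k⁻¹ : Perm Ω) h6
    rwa [inv_app] at h7
  have hge : (cl XX a b).ncard ≤ (cl XX (k a) (k b)).ncard :=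
    Set.ncard_le_ncard_of_injOn k (fun y hy => hcl a b y hy) k.injective.injOn (Set.toFinite _)
  have h6 := le_antisymm hge hle
  rw [h4, h5] at h6
  rw [← size_inj (by norm_num) h6, h3]

/-- **CLIQUES (plan section 8)** -/
theorem case21 [Fintype Ω] [DecidableEq Ω] [Nonempty Ω] (g : Geo p m 2 1 XX) (hm : p + 3 ≤ m) (hp : 3 ≤ p)
    (hc : g.Conn) :
    ∃ CC : Finset (Finset Ω), CC.card = m + 2 ∧ (∀ C ∈ CC, C.card = m + 1) ∧
      (∀ a : Ω, (CC.filter (fun C => a ∈ C)).card = 2) ∧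
      (∀ C ∈ CC, ∀ C' ∈ CC, C ≠ C' → (C ∩ C').card = 1) ∧
      (∀ k : Perm Ω, (∀ x, x ∈ XX ↔ k * x * k⁻¹ ∈ XX) → ∀ C ∈ CC, C.map k.toEmbedding ∈ CC) ∧
      (∀ x ∈ XX, ∀ a, x a = a → ∀ C ∈ CC, a ∈ C → (C.filter (fun b => x b ≠ b)).card = p) := by
  have hp1 : 1 ≤ p := by omega
  have hm1 : 1 ≤ m := by omega
  set G := toNG g hm hp1 hc with hG
  refine ⟨G.CC, G.card_CC hm1, ?_, G.card_through hm1, fun C hC D hD h => G.card_inter hm1 hC hD h, ?_, ?_⟩
  · intro C hC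
    obtain ⟨a, b, hab, rfl⟩ := G.mem_CC.1 hC
    exact G.card_C hab
  · intro k hk C hC
    obtain ⟨a, b, hab, rfl⟩ := G.mem_CC.1 hC
    obtain ⟨hcl, hnear⟩ := near_conj g hm hp1 hk
    have hk' : ∀ x, x ∈ XX ↔ k⁻¹ * x * k⁻¹⁻¹ ∈ XX := by
      intro x
      rw [hk (k⁻¹ * x * k⁻¹⁻¹)]
      have e : k * (k⁻¹ * x * k⁻¹⁻¹) * k⁻¹ = x := by group
      rw [e]
    obtain ⟨hcl', hnear'⟩ := near_conj g hm hp1 hk'
    have hcl2 : ∀ a b y, k y ∈ cl XX (k a) (k b) ↔ y ∈ cl XX a b := by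
      intro a b y
      refine ⟨fun h => ?_, hcl a b y⟩
      have := hcl' _ _ _ h
      rwa [inv_app, inv_app, inv_app] at this
    have hn2 : ∀ a b, g.Near (k a) (k b) ↔ g.Near a b := by
      intro a b
      refine ⟨fun h => ?_, hnear a b⟩
      have := hnear' _ _ h
      rwa [inv_app, inv_app] at this
    -- description of the cliques by `Near` and `cl`
    have hdesc : ∀ a b, g.Near a b → ∀ y, (y ∈ G.C a b ↔ y = a ∨ y = b ∨ (g.Near a y ∧ g.Near b y ∧ y ∉ cl XX a b)) := by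
      intro a b hab y
      rw [G.mem_C]
      refine or_congr Iff.rfl (or_congr Iff.rfl ?_)
      refine and_congr_right fun h1 => and_congr_right fun _ => ?_
      rw [mem_cl_iff g hm hp1 (by norm_num) hab]
      have e1 : G.ix a y = G.ix a b ↔ g.S a y = g.S a b := by
        change ixg g _ a y = ixg g _ a b ↔ _
        rw [ixg_eq _ h1, ← ixg_spec _ hab]
      rw [Ne, e1]
      constructor
      · rintro h2 (h3 | ⟨-, h3⟩)
        · exact h1.1 h3.symm
        · exact h2 h3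
      · intro h2 h3
        exact h2 (Or.inr ⟨h1, h3⟩)
    have he : (G.C a b).map k.toEmbedding = G.C (k a) (k b) := by
      ext z
      obtain ⟨y, rfl⟩ := k.surjective z
      rw [hdesc (k a) (k b) (hnear a b hab), hcl2, hn2, hn2, k.injective.eq_iff, k.injective.eq_iff, ← hdesc a b hab]
      rw [Finset.mem_map]
      constructor
      · rintro ⟨w, hw, h⟩
        have : w = y := k.injective h
        rwa [← this]
      · intro hy
        exact ⟨y, hy, rfl⟩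
    rw [he]
    exact G.C_mem (hnear a b hab)
  · intro x hx a hxa C hC haC
    obtain ⟨b, hab, rfl⟩ := G.eq_C hC haC
    rw [← g.card_P a x hx hxa, ← G.card_filter hab (g.P a x)]
    congr 1
    ext y
    rw [Finset.mem_filter, Finset.mem_filter, Finset.mem_erase]
    constructor
    · rintro ⟨h1, h2⟩
      have hya : y ≠ a := by rintro rfl; exact h2 hxa
      obtain ⟨h3, -⟩ := G.C_change hab h1 hya
      refine ⟨⟨hya, h1⟩, ?_⟩
      by_contra h4
      apply h2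
      refine (g.fix_iff a y h3.1 h3.2.1 x hx hxa).2 ?_
      rw [ixg_spec hm1 h3, Finset.disjoint_singleton_right]
      exact h4
    · rintro ⟨⟨h1, h2⟩, h3⟩
      refine ⟨h2, fun h4 => ?_⟩
      obtain ⟨h5, -⟩ := G.C_change hab h2 h1
      have h6 := (g.fix_iff a y h5.1 h5.2.1 x hx hxa).1 h4
      rw [ixg_spec hm1 h5, Finset.disjoint_singleton_right] at h6
      exact h6 h3

end Final

end Cfsg.Agent.H29.PrA
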